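import Groth.Agent.Lib.SheafCoh.Restrict
import Groth.Prelude.Def_CohTop
import Mathlib.CategoryTheory.Sites.LocallySurjective
import Mathlib.CategoryTheory.Abelian.Exact

/-! # Subsheaves of a constant sheaf of integers -/

set_option autoImplicit false
set_option backward.isDefEq.respectTransparency false

universe u

open CategoryTheory CategoryTheory.Limits Opposite TopologicalSpace

namespace GrothLib.SubConst

open GrothLib

theorem imageSubobject_le_of_locally {Y : TopCat.{u}} {A B C : CohTop.Ab Y} (f : A ⟶ C) (g : B ⟶ C)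
    (h : ∀ (W : Opens Y) (s : A.obj.obj (op W)) (y : Y), y ∈ W → ∃ (W' : Opens Y) (i : W' ≤ W) (b : B.obj.obj (op W')),
      y ∈ W' ∧ g.hom.app (op W') b = C.obj.map (homOfLE i).op (f.hom.app (op W) s)) :
    imageSubobject f ≤ imageSubobject g := by
  have h0 : f ≫ cokernel.π g = 0 := by
    apply Sheaf.hom_ext
    ext ⟨W⟩ s
    choose W' i b hy hb using h W s
    refine TopCat.Sheaf.eq_of_locally_eq' (cokernel g) (fun y : W => W' y.1 y.2) W
      (fun y => homOfLE (i y.1 y.2)) (fun y hy' => Opens.mem_iSup.2 ⟨⟨y, hy'⟩, hy y hy'⟩) _ _ (fun y => ?_)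
    refine Eq.trans ?_ (map_zero _).symm
    change (cokernel g).obj.map (homOfLE (i y.1 y.2)).op ((cokernel.π g).hom.app (op W) (f.hom.app (op W) s)) = 0
    refine (ConcreteCategory.congr_hom ((cokernel.π g).hom.naturality (homOfLE (i y.1 y.2)).op) _).symm.trans ?_
    change (cokernel.π g).hom.app _ (C.obj.map (homOfLE (i y.1 y.2)).op (f.hom.app (op W) s)) = 0
    rw [← hb y.1 y.2]
    change (g ≫ cokernel.π g).hom.app _ (b y.1 y.2) = 0
    rw [cokernel.condition]
    rfl
  have hS := (ShortComplex.exact_iff_image_eq_kernel _).1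
    (ShortComplex.exact_of_g_is_cokernel (ShortComplex.mk g (cokernel.π g) (cokernel.condition g))
      (cokernelIsCokernel g))
  refine le_of_le_of_eq (imageSubobject_le f (factorThruKernelSubobject _ f h0) ?_) hS.symm
  exact factorThruKernelSubobject_comp_arrow _ _ h0

variable {X : TopCat.{u}} {H : CohTop.Ab X} (ι : H ⟶ CohTop.const X (ULift.{u} ℤ))

/-- The constant presheaf. -/
noncomputable abbrev constPre (X : TopCat.{u}) : (Opens X)ᵒᵖ ⥤ AddCommGrpCat.{u} :=
  (Functor.const _).obj (AddCommGrpCat.of (ULift.{u} ℤ))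

/-- The constant sections. -/
noncomputable abbrev cSec (X : TopCat.{u}) : constPre X ⟶ (CohTop.const X (ULift.{u} ℤ)).obj :=
  toSheafify (Opens.grothendieckTopology X) (constPre X)

lemma res_cSec {W V : Opens X} (i : V ≤ W) (t : ULift.{u} ℤ) :
    (CohTop.const X (ULift.{u} ℤ)).obj.map (homOfLE i).op ((cSec X).app (op W) t) = (cSec X).app (op V) t :=
  (ConcreteCategory.congr_hom ((cSec X).naturality (homOfLE i).op) t).symm

/-- The integers which are, near a point, sections of the subsheaf. -/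
def vals (y : X) : Set ℤ :=
  {n | ∃ (W : Opens X) (_ : y ∈ W) (s : H.obj.obj (op W)), ι.hom.app (op W) s = (cSec X).app (op W) (ULift.up n)}

lemma vals_combine {y : X} {n m : ℤ} (hn : n ∈ vals ι y) (hm : m ∈ vals ι y) (q : ℤ) :
    n - q * m ∈ vals ι y := by
  obtain ⟨W, hW, s, hs⟩ := hn
  obtain ⟨V, hV, t, ht⟩ := hm
  refine ⟨W ⊓ V, ⟨hW, hV⟩, H.obj.map (homOfLE inf_le_left).op s - q • H.obj.map (homOfLE inf_le_right).op t, ?_⟩
  have e₁ : ι.hom.app (op (W ⊓ V)) (H.obj.map (homOfLE inf_le_left).op s) =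
      (cSec X).app (op (W ⊓ V)) (ULift.up n) :=
    (ConcreteCategory.congr_hom (ι.hom.naturality (homOfLE inf_le_left).op) s).trans
      ((congrArg ((CohTop.const X (ULift.{u} ℤ)).obj.map (homOfLE inf_le_left).op) hs).trans (res_cSec _ _))
  have e₂ : ι.hom.app (op (W ⊓ V)) (H.obj.map (homOfLE inf_le_right).op t) =
      (cSec X).app (op (W ⊓ V)) (ULift.up m) :=
    (ConcreteCategory.congr_hom (ι.hom.naturality (homOfLE inf_le_right).op) t).trans
      ((congrArg ((CohTop.const X (ULift.{u} ℤ)).obj.map (homOfLE inf_le_right).op) ht).trans (res_cSec _ _))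
  rw [map_sub, map_zsmul, e₁, e₂, ← map_zsmul, ← map_sub]
  rfl

lemma exists_local {W : Opens X} (s : (CohTop.const X (ULift.{u} ℤ)).obj.obj (op W)) {y : X} (hy : y ∈ W) :
    ∃ (W' : Opens X) (i : W' ≤ W) (n : ℤ), y ∈ W' ∧
      (CohTop.const X (ULift.{u} ℤ)).obj.map (homOfLE i).op s = (cSec X).app (op W') (ULift.up n) := by
  obtain ⟨W', i, ⟨t, ht⟩, hy'⟩ :=
    (Presheaf.imageSieve_mem (Opens.grothendieckTopology X) (cSec X) s) y hy
  exact ⟨W', i.le, t.down, hy', ht.symm⟩

theorem exists_open_eq_smul [Nonempty X] :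
    ∃ (U : Opens X) (d : ℤ), U ≠ ⊥ ∧
      imageSubobject ((CohTop.restrFunctor U).map ι) =
        imageSubobject ((CohTop.restrFunctor U).map (d • 𝟙 (CohTop.const X (ULift.{u} ℤ)))) := by
  classical
  obtain ⟨x₀⟩ := ‹Nonempty X›
  -- the smallest positive value, or zero
  obtain ⟨U, d, hU, hd, hdvd⟩ : ∃ (U : Opens X) (d : ℤ), U ≠ ⊥ ∧
      (∃ s : H.obj.obj (op U), ι.hom.app (op U) s = (cSec X).app (op U) (ULift.up d)) ∧
      ∀ y ∈ U, ∀ n ∈ vals ι y, d ∣ n := by
    by_cases h : ∃ k : ℕ, 0 < k ∧ ∃ y, (k : ℤ) ∈ vals ι y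
    · obtain ⟨hk, y₀, W, hy₀, s, hs⟩ := Nat.find_spec h
      refine ⟨W, Nat.find h, ?_, ⟨s, hs⟩, fun y hy n hn => ?_⟩
      · exact fun hb => (Opens.mem_bot.1 (hb ▸ hy₀ : y₀ ∈ (⊥ : Opens X)))
      · have hdy : (Nat.find h : ℤ) ∈ vals ι y := ⟨W, hy, s, hs⟩
        have hr := vals_combine ι hn hdy (n / (Nat.find h : ℤ))
        rw [show n - n / (Nat.find h : ℤ) * (Nat.find h : ℤ) = n % (Nat.find h : ℤ) by
          rw [Int.emod_def, mul_comm]] at hr
        apply Int.dvd_of_emod_eq_zero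
        by_contra hne
        have h0 := Int.emod_nonneg n (b := (Nat.find h : ℤ)) (by omega)
        have h1 := Int.emod_lt_of_pos n (b := (Nat.find h : ℤ)) (by omega)
        refine Nat.find_min h (m := (n % (Nat.find h : ℤ)).toNat) (by omega) ⟨by omega, y, ?_⟩
        rwa [Int.toNat_of_nonneg h0]
    · refine ⟨⊤, 0, fun hb => Opens.mem_bot.1 (hb ▸ trivial : x₀ ∈ (⊥ : Opens X)), ⟨0, ?_⟩, fun y _ n hn => ?_⟩
      · rw [map_zero]; exact (map_zero _).symm
      · rw [zero_dvd_iff]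
        by_contra hne
        rcases lt_or_gt_of_ne hne with hl | hl
        · have := vals_combine ι (vals_combine ι hn hn 1) hn 1
          exact h ⟨(-n).toNat, by omega, y, by rw [Int.toNat_of_nonneg (by omega)]; simpa using this⟩
        · exact h ⟨n.toNat, by omega, y, by rwa [Int.toNat_of_nonneg (by omega)]⟩
  refine ⟨U, d, hU, le_antisymm (imageSubobject_le_of_locally _ _ ?_) (imageSubobject_le_of_locally _ _ ?_)⟩
  · intro W s y hy
    obtain ⟨W₁, i, n, hy₁, hn⟩ := exists_local (ι.hom.app (op ((SheafCoh.openFun U).obj W)) s)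
      (show (y : X) ∈ (SheafCoh.openFun U).obj W from ⟨y, hy, rfl⟩)
    have hnv : n ∈ vals ι (y : X) := ⟨W₁, hy₁, H.obj.map (homOfLE i).op s,
      (ConcreteCategory.congr_hom (ι.hom.naturality (homOfLE i).op) s).trans hn⟩
    obtain ⟨q, hq⟩ := hdvd (y : X) y.2 n hnv
    let W' : Opens (TopCat.of U) := (Opens.map (TopCat.ofHom ⟨_, continuous_subtype_val⟩ : TopCat.of U ⟶ X)).obj W₁
    have hW'W : W' ≤ W := fun z hz => by
      obtain ⟨z', hz', e⟩ := i hz
      exact (Subtype.ext e : z' = z) ▸ hz'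
    have hle : (SheafCoh.openFun U).obj W' ≤ W₁ := fun z ⟨z', hz', e⟩ => e ▸ hz'
    refine ⟨W', hW'W, (cSec X).app (op ((SheafCoh.openFun U).obj W')) (ULift.up q), hy₁, ?_⟩
    change (d • 𝟙 (CohTop.const X (ULift.{u} ℤ)) : _ ⟶ _).hom.app (op ((SheafCoh.openFun U).obj W')) _ =
      (CohTop.const X (ULift.{u} ℤ)).obj.map ((SheafCoh.openFun U).map (homOfLE hW'W)).op
        (ι.hom.app (op ((SheafCoh.openFun U).obj W)) s)
    rw [show ((SheafCoh.openFun U).map (homOfLE hW'W)).op = (homOfLE i).op ≫ (homOfLE hle).op from rfl,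
      Functor.map_comp, ConcreteCategory.comp_apply, hn, res_cSec, hq]
    exact (map_zsmul ((cSec X).app _).hom d (ULift.up q)).symm
  · intro W s y hy
    obtain ⟨W₁, i, n, hy₁, hn⟩ := exists_local (X := X) s
      (show (y : X) ∈ (SheafCoh.openFun U).obj W from ⟨y, hy, rfl⟩)
    obtain ⟨t, ht⟩ := hd
    let W' : Opens (TopCat.of U) := (Opens.map (TopCat.ofHom ⟨_, continuous_subtype_val⟩ : TopCat.of U ⟶ X)).obj W₁
    have hW'W : W' ≤ W := fun z hz => by
      obtain ⟨z', hz', e⟩ := i hz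
      exact (Subtype.ext e : z' = z) ▸ hz'
    have hle : (SheafCoh.openFun U).obj W' ≤ W₁ := fun z ⟨z', hz', e⟩ => e ▸ hz'
    have hle' : (SheafCoh.openFun U).obj W' ≤ U := fun z ⟨z', _, e⟩ => e ▸ z'.2
    refine ⟨W', hW'W, n • H.obj.map (homOfLE hle').op t, hy₁, ?_⟩
    change ι.hom.app (op ((SheafCoh.openFun U).obj W')) _ =
      (CohTop.const X (ULift.{u} ℤ)).obj.map ((SheafCoh.openFun U).map (homOfLE hW'W)).op
        ((d • 𝟙 (CohTop.const X (ULift.{u} ℤ)) : _ ⟶ _).hom.app (op ((SheafCoh.openFun U).obj W)) s)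
    have e : ι.hom.app (op ((SheafCoh.openFun U).obj W')) (H.obj.map (homOfLE hle').op t) =
        (cSec X).app _ (ULift.up d) :=
      (ConcreteCategory.congr_hom (ι.hom.naturality (homOfLE hle').op) t).trans
        ((congrArg ((CohTop.const X (ULift.{u} ℤ)).obj.map (homOfLE hle').op) ht).trans (res_cSec _ _))
    rw [map_zsmul, e]
    change _ = (CohTop.const X (ULift.{u} ℤ)).obj.map _ (d • s)
    rw [map_zsmul, show ((SheafCoh.openFun U).map (homOfLE hW'W)).op = (homOfLE i).op ≫ (homOfLE hle).op from rfl,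
      Functor.map_comp, ConcreteCategory.comp_apply]
    refine Eq.trans ?_ (congrArg (fun z => d • (CohTop.const X (ULift.{u} ℤ)).obj.map (homOfLE hle).op z) hn).symm
    dsimp only
    rw [res_cSec, ← map_zsmul, ← map_zsmul]
    refine congrArg _ (ULift.ext _ _ ?_)
    exact mul_comm n d

end GrothLib.SubConst
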